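import Groth.Agent.TransFib6.Fibre
import Groth.Agent.TransFib6.SchemeFlat
import Groth.Agent.RegNear6.Stalk
import Groth.Agent.GrpSchLib.SmoothRegular
import Groth.Agent.CILib.Basic
import Groth.Agent.KRegLib.Regular
import Groth.Agent.S2890
import Groth.Agent.S2886
import Groth.Agent.S1661

/-!
# Regular immersions into smooth schemes
-/

set_option autoImplicit false
set_option linter.style.haveILetI false
set_option backward.isDefEq.respectTransparency false
set_option backward.isDefEq.respectTransparency.types false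

universe u

open AlgebraicGeometry CategoryTheory Limits

namespace Groth.Agent.SmoothImmX

variable {X Y S : Scheme.{u}}

/-- A flat closed subscheme of a smooth scheme with complete intersection fibres is regularly immersed. -/
theorem regClosed_of_ci_fibres (p : X ⟶ S) [Smooth p] (i : Y ⟶ X) [IsClosedImmersion i]
    [Flat (i ≫ p)] [LocallyOfFinitePresentation (i ≫ p)]
    (hCI : ∀ y : Y, Pi1.IsCompleteIntersection (CInt.fiberStalk (i ≫ p) y)) :
    Mor2.IsRegularClosedImmersion i := by
  refine ((Groth.Agent.S2890.result i p).2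
    ⟨fun y => Flat.stalkMap p (i y), inferInstance, fun s => ?_⟩).2
  haveI : Smooth (p.fiberToSpecResidueField s) :=
    MorphismProperty.pullback_snd (P := @Smooth) p _ inferInstance
  haveI : LocallyOfFiniteType (p.fiberToSpecResidueField s) := inferInstance
  haveI : IsLocallyNoetherian (p.fiber s) := LocallyOfFiniteType.isLocallyNoetherian (p.fiberToSpecResidueField s)
  rw [TransFib6.isRegularClosedImmersion_iff]
  intro w
  obtain ⟨y, hy⟩ : ∃ y, (i ≫ p).fiberι s w = y := ⟨_, rfl⟩
  have hys : (i ≫ p) y = s := by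
    have h1 : y ∈ Set.range ((i ≫ p).fiberι s) := ⟨w, hy⟩
    rw [Scheme.Hom.range_fiberι] at h1
    exact h1
  subst hys
  have hw : w = (i ≫ p).asFiber y :=
    ((i ≫ p).fiberι _).isEmbedding.injective (hy.trans ((i ≫ p).fiberι_asFiber y).symm)
  subst hw
  rw [RegNear6.regNear_iff]
  let F := CInt.fiberMap i p ((i ≫ p) y)
  let v := F ((i ≫ p).asFiber y)
  haveI : IsRegularLocalRing ((p.fiber ((i ≫ p) y)).presheaf.stalk v) :=
    GrpSchLib.isRegularLocalRing_stalk_of_smooth (p.fiberToSpecResidueField _) v
  obtain ⟨rs, hrs, hker⟩ := (CILib.isCI_iff_regular (F.stalkMap ((i ≫ p).asFiber y)).hom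
    (F.stalkMap_surjective _)).1 (hCI y)
  exact ⟨rs, hrs, hker.symm⟩

/-- A flat closed subscheme, smooth over the base, of a smooth scheme is regularly immersed. -/
theorem regClosed_of_smooth (p : X ⟶ S) [Smooth p] (i : Y ⟶ X) [IsClosedImmersion i] [Smooth (i ≫ p)] :
    Mor2.IsRegularClosedImmersion i := by
  refine regClosed_of_ci_fibres p i fun y => ?_
  haveI : Smooth ((i ≫ p).fiberToSpecResidueField ((i ≫ p) y)) :=
    MorphismProperty.pullback_snd (P := @Smooth) (i ≫ p) _ inferInstance
  haveI : IsRegularLocalRing (CInt.fiberStalk (i ≫ p) y) :=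
    GrpSchLib.isRegularLocalRing_stalk_of_smooth ((i ≫ p).fiberToSpecResidueField _) ((i ≫ p).asFiber y)
  exact KRegLib.isCompleteIntersection_of_regular _

/-- A section of a smooth morphism is a regular immersion. -/
theorem regClosed_section (f : X ⟶ S) [Smooth f] (σ : S ⟶ X) (hσ : σ ≫ f = 𝟙 S) [IsClosedImmersion σ] :
    Mor2.IsRegularClosedImmersion σ := by
  haveI : Smooth (σ ≫ f) := by rw [hσ]; infer_instance
  exact regClosed_of_smooth f σ

/-- Lifting a regular immersion to a smooth scheme. -/
theorem regClosed_lift (p : X ⟶ S) [Smooth p] (i : Y ⟶ X) (j : Y ⟶ S) [IsClosedImmersion i]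
    (h : i ≫ p = j) (hj : Mor2.IsRegularClosedImmersion j) : Mor2.IsRegularClosedImmersion i := by
  let γ : Y ⟶ pullback j p := pullback.lift (𝟙 Y) i (by rw [Category.id_comp, h])
  have hγ : γ ≫ pullback.snd j p = i := pullback.lift_snd _ _ _
  haveI : IsClosedImmersion γ := by
    haveI := hj.1
    haveI : IsClosedImmersion (γ ≫ pullback.snd j p) := by rw [hγ]; infer_instance
    exact IsClosedImmersion.of_comp γ (pullback.snd j p)
  haveI : Smooth (pullback.fst j p) := MorphismProperty.pullback_fst (P := @Smooth) j p inferInstance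
  have h1 := regClosed_section (pullback.fst j p) γ (pullback.lift_fst _ _ _)
  have h2 := Groth.Agent.S1661.result γ (pullback.snd j p) h1 (Groth.Agent.S2886.result j p hj)
  rwa [hγ] at h2

end Groth.Agent.SmoothImmX
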